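import Mathlib
import Cfsg.Agent.Lib.RootSub.RootClass

/-!
A class of root involutions: the graph of products, odd connectivity, and the induced set in a subgroup generated by
members.
-/

set_option autoImplicit false
set_option linter.unusedSectionVars false

namespace CfsgLib.RootConn

open Cfsg Relation CfsgLib.RootInv

universe u
variable {G : Type u} [Group G] {D : Set G}

theorem prod_symm (hD : IsRootInvolutionSet D) {a b : G} (h : ProdAdj D a b) : ProdAdj D b a :=
  ⟨h.2.1, h.1, h.2.2.1.symm, h.2.2.2.1.symm, h.2.2.2.1 ▸ h.2.2.2.2⟩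

theorem prodReach_symm (hD : IsRootInvolutionSet D) {a b : G} (h : ReflTransGen (ProdAdj D) a b) :
    ReflTransGen (ProdAdj D) b a := by
  induction h with
  | refl => exact .refl
  | tail _ h ih => exact (ReflTransGen.single (prod_symm hD h)).trans ih

theorem prod_conj (hD : IsRootInvolutionSet D) (g : G) {a b : G} (h : ProdAdj D a b) :
    ProdAdj D (g * a * g⁻¹) (g * b * g⁻¹) :=
  ⟨hD.conj_mem a h.1 g, hD.conj_mem b h.2.1 g, fun e => h.2.2.1 (mul_left_cancel (mul_right_cancel e)),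
    by rw [conj_mul, conj_mul, h.2.2.2.1], by rw [conj_mul]; exact hD.conj_mem _ h.2.2.2.2 g⟩

theorem prodReach_conj (hD : IsRootInvolutionSet D) (g : G) {a b : G} (h : ReflTransGen (ProdAdj D) a b) :
    ReflTransGen (ProdAdj D) (g * a * g⁻¹) (g * b * g⁻¹) := by
  induction h with
  | refl => exact .refl
  | tail _ h ih => exact ih.tail (prod_conj hD g h)

theorem prodReach_mem (hD : IsRootInvolutionSet D) {a b : G} (ha : a ∈ D) (h : ReflTransGen (ProdAdj D) a b) :
    b ∈ D := by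
  induction h with
  | refl => exact ha
  | tail _ h _ => exact h.2.1

/-- A member and its partner with product of order four: the square forms a line with both. -/
theorem four_adj (hD : IsRootInvolutionSet D) {a b : G} (ha : a ∈ D) (hb : b ∈ D)
    (h : orderOf (a * b) = 4) :
    ProdAdj D a ((a * b) ^ 2) ∧ a * (a * b) ^ 2 = b * a * b ∧ ProdAdj D b ((a * b) ^ 2) ∧
      b * (a * b) ^ 2 = a * b * a ∧ ¬ Commute a b := by
  have haa := mul_self hD ha
  have hbb := mul_self hD hb
  have hai := inv_eq hD ha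
  have hbi := inv_eq hD hb
  have hf : (a * b) ^ 2 ∈ D := by
    rcases hD.pair a ha b hb with e | e | ⟨-, e⟩
    · have h2 : (a * b) ^ 2 = 1 := by
        rw [(show Commute a b from e).mul_pow, pow_two, pow_two, haa, hbb, one_mul]
      have := orderOf_dvd_of_pow_eq_one h2
      rw [h] at this
      exact absurd this (by norm_num)
    · rw [h] at e
      exact absurd e (by decide)
    · exact e
  have hne : ¬ Commute a b := fun e => by
    have := orderOf_dvd_of_pow_eq_one (x := a * b) (n := 2)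
      (by rw [e.mul_pow, pow_two, pow_two, haa, hbb, one_mul])
    rw [h] at this
    exact absurd this (by norm_num)
  have h4 : (a * b) ^ 2 = (b * a) ^ 2 := by
    have : (a * b) ^ 2 = ((a * b) ^ 2)⁻¹ := (inv_eq hD hf).symm
    rw [this, ← inv_pow, mul_inv_rev, hai, hbi]
  have e1 : a * (a * b) ^ 2 = b * a * b := by
    rw [pow_two]; simp only [← mul_assoc]; rw [haa, one_mul]
  have e1' : (a * b) ^ 2 * a = b * a * b := by
    rw [h4, pow_two]; simp only [mul_assoc]; rw [haa, mul_one]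
  have e2 : b * (a * b) ^ 2 = a * b * a := by
    rw [h4, pow_two]; simp only [← mul_assoc]; rw [hbb, one_mul]
  have e2' : (a * b) ^ 2 * b = a * b * a := by
    rw [pow_two]; simp only [mul_assoc]; rw [hbb, mul_one]
  refine ⟨⟨ha, hf, fun e => ?_, e1.trans e1'.symm, ?_⟩, e1, ⟨hb, hf, fun e => ?_, e2.trans e2'.symm, ?_⟩, e2, hne⟩
  · have : b * a * b = 1 := by rw [← e1, ← e, haa]
    exact ne_one hD ha (by rwa [show b * a * b = b * a * b⁻¹ by rw [hbi], conj_eq_one_iff] at this)
  · rw [e1, show b * a * b = b * a * b⁻¹ by rw [hbi]]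
    exact hD.conj_mem a ha b
  · have : a * b * a = 1 := by rw [← e2, ← e, hbb]
    exact ne_one hD hb (by rwa [show a * b * a = a * b * a⁻¹ by rw [hai], conj_eq_one_iff] at this)
  · rw [e2, show a * b * a = a * b * a⁻¹ by rw [hai]]
    exact hD.conj_mem b hb a

/-- In a class some member is opposite to `a` and some has product of order four with it. -/
theorem class_partners (hD : IsNondegenerateRootInvolutionSet D) (hcl : IsRootInvolutionClass D) {a : G}
    (ha : a ∈ D) : (∃ p, OddAdj D a p) ∧ ∃ v ∈ D, orderOf (a * v) = 4 := by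
  obtain ⟨-, -, ⟨x, hx, y, hy, hne, hodd⟩, ⟨z, hz, w, hw, h4⟩⟩ := hD
  refine ⟨?_, ?_⟩
  · obtain ⟨g, rfl⟩ := hcl.2.2 x hx a ha
    exact ⟨_, odd_conj hcl.1 g ⟨hx, hy, hne, hodd⟩⟩
  · obtain ⟨g, rfl⟩ := hcl.2.2 z hz a ha
    refine ⟨g * w * g⁻¹, hcl.1.conj_mem w hw g, ?_⟩
    rw [conj_mul, ← MulAut.conj_apply, MulEquiv.orderOf_eq, h4]

/-- The graph of odd products on a non-degenerate class is connected. -/
theorem odd_connected (hD : IsNondegenerateRootInvolutionSet D) (hcl : IsRootInvolutionClass D) :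
    IsConnectedSet (OddAdj D) D := by
  intro a ha b hb
  obtain ⟨g, rfl⟩ := hcl.2.2 a ha b hb
  suffices h : Subgroup.closure D ≤ compStab hcl.1 a from h (hcl.1.generates ▸ Subgroup.mem_top g)
  refine (Subgroup.closure_le _).mpr fun d hd => ?_
  show ReflTransGen (OddAdj D) a (d * a * d⁻¹)
  have hdi := inv_eq hcl.1 hd
  have had : d * a * d⁻¹ ∈ D := hcl.1.conj_mem a ha d
  rcases hcl.1.pair a ha d hd with e | e | ⟨e, -⟩
  · rw [← e, mul_inv_cancel_right]
  · by_cases hne : a = d
    · subst hne; rw [mul_inv_cancel_right]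
    · have h1 : OddAdj D a d := ⟨ha, hd, hne, e⟩
      have h2 := odd_conj hcl.1 d h1
      rw [mul_inv_cancel_right] at h2
      exact (ReflTransGen.single h1).tail (odd_symm h2)
  · obtain ⟨⟨-, hf, hne, hc, hfa⟩, e1, -⟩ := four_adj hcl.1 ha hd e
    rw [hdi]
    have hbD : d * a * d ∈ D := by simpa only [hdi] using had
    refine line_reach' hcl.1 ha hbD ?_ ?_ (class_partners hD hcl ha).1
      (class_partners hD hcl hbD).1
    · rw [← e1]
      calc a * (a * (a * d) ^ 2) = a * ((a * d) ^ 2 * a) := by rw [hc]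
        _ = a * (a * d) ^ 2 * a := (mul_assoc _ _ _).symm
    · rw [← e1, ← mul_assoc, mul_self hcl.1 ha, one_mul]
      exact hf

/-- An element of the dihedral group of two opposite members conjugates one to the other. -/
theorem conj_mem_closure (hD : IsRootInvolutionSet D) {a b : G} (h : OddAdj D a b) {H : Subgroup G}
    (ha : a ∈ H) (hb : b ∈ H) : ∃ g ∈ H, b = g * a * g⁻¹ := by
  obtain ⟨k, hk⟩ := h.2.2.2
  set t := a * b with ht
  have hta : a * t * a⁻¹ = t⁻¹ := by
    rw [ht, mul_inv_rev, inv_eq hD h.1, inv_eq hD h.2.1, ← mul_assoc, mul_self hD h.1, one_mul]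
  refine ⟨t ^ (k : ℤ), zpow_mem (mul_mem ha hb) _, ?_⟩
  have e2 : t ^ (k : ℤ) * t ^ (k : ℤ) = t⁻¹ := by
    rw [← zpow_add]
    refine eq_inv_of_mul_eq_one_left ?_
    rw [← zpow_add_one, show (k : ℤ) + k + 1 = ((2 * k + 1 : ℕ) : ℤ) by push_cast; ring, zpow_natCast, ← hk,
      pow_orderOf_eq_one]
  have e1 : a * (t ^ (k : ℤ))⁻¹ = t ^ (k : ℤ) * a := by
    have e : a * (t ^ (k : ℤ))⁻¹ * a⁻¹ = t ^ (k : ℤ) := by
      rw [← inv_zpow, ← conj_zpow, show a * t⁻¹ * a⁻¹ = (a * t * a⁻¹)⁻¹ by group, hta, inv_inv]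
    calc a * (t ^ (k : ℤ))⁻¹ = a * (t ^ (k : ℤ))⁻¹ * a⁻¹ * a := (inv_mul_cancel_right _ _).symm
      _ = t ^ (k : ℤ) * a := by rw [e]
  calc b = t⁻¹ * a := by rw [ht, mul_inv_rev, inv_eq hD h.1, inv_eq hD h.2.1, mul_assoc, mul_self hD h.1, mul_one]
    _ = t ^ (k : ℤ) * t ^ (k : ℤ) * a := by rw [e2]
    _ = _ := by rw [mul_assoc, mul_assoc (t ^ (k : ℤ)) a, e1]

/-- The set induced in a subgroup by a set of members generating it and closed under it. -/
theorem rootSet_induced (hD : IsRootInvolutionSet D) {H : Subgroup G} {E : Set G} (hED : E ⊆ D)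
    (hgen : Subgroup.closure E = H) (hconj : ∀ y ∈ E, ∀ h ∈ H, h * y * h⁻¹ ∈ E)
    (hsq : ∀ y ∈ E, ∀ z ∈ E, orderOf (y * z) = 4 → (y * z) ^ 2 ∈ E) :
    IsRootInvolutionSet ({h : H | (h : G) ∈ E}) where
  orderOf_eq d hd := by rw [← Subgroup.orderOf_coe]; exact hD.orderOf_eq _ (hED hd)
  generates := by
    refine Subgroup.map_injective H.subtype_injective ?_
    rw [MonoidHom.map_closure, ← MonoidHom.range_eq_map, Subgroup.range_subtype]
    refine le_antisymm ((Subgroup.closure_le _).mpr fun _ ⟨y, _, e⟩ => e ▸ y.2) ?_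
    conv_lhs => rw [← hgen]
    exact Subgroup.closure_mono fun y hy => ⟨⟨y, hgen ▸ Subgroup.subset_closure hy⟩, hy, rfl⟩
  conj_mem d hd g := hconj _ hd _ g.2
  pair a ha b hb := by
    rcases hD.pair _ (hED ha) _ (hED hb) with e | e | ⟨e, -⟩
    · exact Or.inl (Subtype.ext e)
    · exact Or.inr (Or.inl (by rwa [← Subgroup.orderOf_coe]))
    · exact Or.inr (Or.inr ⟨by rwa [← Subgroup.orderOf_coe],
        show (((a * b) ^ 2 : H) : G) ∈ E from hsq _ ha _ hb e⟩)

theorem oddAdj_induced {H : Subgroup G} {E : Set G} {a b : H} (ha : (a : G) ∈ E) (hb : (b : G) ∈ E)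
    (h : OddAdj D (a : G) b) : OddAdj {h : H | (h : G) ∈ E} a b :=
  ⟨ha, hb, fun e => h.2.2.1 (congrArg Subtype.val e), by
    rw [← Subgroup.orderOf_coe]; exact h.2.2.2⟩

theorem oddAdj_of_induced {H : Subgroup G} {E : Set G} (hED : E ⊆ D) {a b : H}
    (h : OddAdj {h : H | (h : G) ∈ E} a b) : OddAdj D (a : G) b :=
  ⟨hED h.1, hED h.2.1, fun e => h.2.2.1 (Subtype.ext e), by
    have := h.2.2.2; rwa [← Subgroup.orderOf_coe] at this⟩

end CfsgLib.RootConn
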