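import Cfsg.Agent.Lib.RootConn.Basic

/-!
Members in different components of the graph of products.
-/

set_option autoImplicit false
set_option linter.unusedSectionVars false

namespace CfsgLib.RootConn

open Cfsg Relation CfsgLib.RootInv

universe u
variable {G : Type u} [Group G] {D : Set G}

theorem not_commute_of_odd (hD : IsRootInvolutionSet D) {a b : G} (h : OddAdj D a b) : ¬ Commute a b := by
  intro e
  have h2 : (a * b) ^ 2 = 1 := by
    rw [e.mul_pow, pow_two, pow_two, mul_self hD h.1, mul_self hD h.2.1, one_mul]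
  have := (Nat.coprime_two_right.mpr h.2.2.2).eq_one_of_dvd (orderOf_dvd_of_pow_eq_one h2)
  exact h.2.2.1 (by rw [← inv_eq hD h.1, inv_eq_of_mul_eq_one_right (orderOf_eq_one_iff.mp this)])

/-- Members in different components commute or are opposite. -/
theorem cross (hD : IsRootInvolutionSet D) {a b : G} (ha : a ∈ D) (hb : b ∈ D)
    (h : ¬ ReflTransGen (ProdAdj D) a b) : Commute a b ∨ OddAdj D a b := by
  rcases hD.pair a ha b hb with e | e | ⟨e, -⟩
  · exact Or.inl e
  · exact Or.inr ⟨ha, hb, fun e0 => h (e0 ▸ .refl), e⟩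
  · obtain ⟨h1, -, h2, -, -⟩ := four_adj hD ha hb e
    exact absurd ((ReflTransGen.single h1).tail (prod_symm hD h2)) h

/-- Commuting with one member of another component means commuting with all of them. -/
theorem commute_comp (hD : IsRootInvolutionSet D) {a b c : G} (ha : a ∈ D) (hb : b ∈ D)
    (hR : ¬ ReflTransGen (ProdAdj D) a b) (hab : Commute a b) (hbc : ReflTransGen (ProdAdj D) b c) :
    Commute a c := by
  induction hbc with
  | refl => exact hab
  | @tail x y hbx h ih =>
    have hay : ¬ ReflTransGen (ProdAdj D) a y := fun e =>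
      hR (e.trans (prodReach_symm hD (hbx.tail h)))
    rcases cross hD ha h.2.1 hay with e | e
    · exact e
    · exact absurd h.2.2.2.2 fun hxy =>
        no_translate hD (odd_symm e) (ne_one hD h.1) h.2.2.2.1 ih.symm hxy

/-- An opposite member moves the component out of sight. -/
theorem odd_moves (hD : IsRootInvolutionSet D) {a b : G} (h : OddAdj D a b)
    (hR : ¬ ReflTransGen (ProdAdj D) a b) :
    ¬ ReflTransGen (ProdAdj D) b (a * b * a⁻¹) ∧ ¬ Commute b (a * b * a⁻¹) := by
  constructor
  · intro hab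
    let K : Subgroup G :=
      { carrier := {g | ReflTransGen (ProdAdj D) b (g * b * g⁻¹)}
        one_mem' := by
          show ReflTransGen _ _ _
          rw [inv_one, mul_one, one_mul]
        mul_mem' := fun {x y} (hx : ReflTransGen _ _ _) (hy : ReflTransGen _ _ _) => by
          show ReflTransGen _ _ _
          have := prodReach_conj hD x hy
          rw [show x * (y * b * y⁻¹) * x⁻¹ = x * y * b * (x * y)⁻¹ by group] at this
          exact hx.trans this
        inv_mem' := fun {x} (hx : ReflTransGen _ _ _) => by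
          show ReflTransGen _ _ _
          have := prodReach_conj hD x⁻¹ hx
          rw [show x⁻¹ * (x * b * x⁻¹) * x⁻¹⁻¹ = b by group] at this
          exact prodReach_symm hD this }
    have hbK : b ∈ K := by
      show ReflTransGen _ _ _
      rw [mul_inv_cancel_right]
    obtain ⟨g, hg, e⟩ := conj_mem_closure hD (odd_symm h) hbK (hab : a ∈ K)
    have hg' : ReflTransGen (ProdAdj D) b (g * b * g⁻¹) := hg
    rw [← e] at hg'
    exact hR (prodReach_symm hD hg')
  · intro e
    rw [inv_eq hD h.1] at e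
    have haa := mul_self hD h.1
    have hbb := mul_self hD h.2.1
    have h4 : (b * a) ^ 4 = 1 := by
      have h1 : (b * a) ^ 2 = b * (a * b * a) := by rw [pow_two]; simp only [mul_assoc]
      rw [show (4 : ℕ) = 2 * 2 by norm_num, pow_mul, h1, e.mul_pow, pow_two, pow_two, hbb, one_mul]
      calc a * b * a * (a * b * a) = a * b * (a * a) * (b * a) := by simp only [mul_assoc]
        _ = a * (b * b) * a := by rw [haa, mul_one]; simp only [mul_assoc]
        _ = 1 := by rw [hbb, mul_one, haa]
    have hodd : Odd (orderOf (b * a)) := (odd_symm h).2.2.2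
    have := ((Nat.coprime_two_right.mpr hodd).pow_right 2).eq_one_of_dvd
      ((orderOf_dvd_of_pow_eq_one h4).trans (by norm_num))
    exact h.2.2.1 (by rw [← inv_eq hD h.2.1, inv_eq_of_mul_eq_one_right (orderOf_eq_one_iff.mp this)])

variable [Finite G]

/-- The statement on connectedness for groups smaller than `n`. -/
def ConnBelow (n : ℕ) : Prop :=
  ∀ (H : Type u) [Group H] [Finite H] (E : Set H), Nat.card H < n → IsNondegenerateRootInvolutionSet E →
    IsRootInvolutionClass E → IsConnectedSet (ProdAdj E) E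

/-- Two components with opposite members have no common commuting component. -/
theorem no_wedge (hB : ConnBelow.{u} (Nat.card G)) (hD : IsNondegenerateRootInvolutionSet D)
    (hcl : IsRootInvolutionClass D) {a b c : G} (hb : b ∈ D) (hc : c ∈ D) (hab : OddAdj D a b)
    (hRab : ¬ ReflTransGen (ProdAdj D) a b) (hRca : ¬ ReflTransGen (ProdAdj D) c a) (hca : Commute c a)
    (hcb : Commute c b) : False := by
  have hR := hcl.1
  have ha := hab.1
  set C := {y | ReflTransGen (ProdAdj D) a y}
  set W := Subgroup.closure (C ∪ {b}) with hW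
  have hCW : ∀ {y}, ReflTransGen (ProdAdj D) a y → y ∈ W := fun {y} hy => Subgroup.subset_closure (Or.inl hy)
  have haW : a ∈ W := hCW .refl
  have hbW : b ∈ W := Subgroup.subset_closure (Or.inr rfl)
  have hcent : W ≤ Subgroup.centralizer {c} := by
    refine (Subgroup.closure_le _).mpr ?_
    rintro y (hy | rfl) <;> rw [SetLike.mem_coe, Subgroup.mem_centralizer_singleton_iff]
    · exact ((commute_comp hR hc ha hRca hca hy).symm).eq
    · exact hcb.symm.eq
  have hlt : Nat.card W < Nat.card G := by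
    refine lt_of_le_of_ne (Subgroup.card_le_card_group W) fun e => ?_
    have htop := (Subgroup.card_eq_iff_eq_top W).mp e
    obtain ⟨g, rfl⟩ := hcl.2.2 c hc a ha
    have hgc : g * c = c * g :=
      Subgroup.mem_centralizer_singleton_iff.mp (hcent (htop ▸ Subgroup.mem_top g))
    rw [hgc, mul_inv_cancel_right] at hRca
    exact hRca .refl
  set E := {y | ∃ w ∈ W, y = w * a * w⁻¹} with hE
  have hED : E ⊆ D := by rintro y ⟨w, -, rfl⟩; exact hR.conj_mem a ha w
  have hEW : E ⊆ W := by rintro y ⟨w, hw, rfl⟩; exact W.mul_mem (W.mul_mem hw haW) (W.inv_mem hw)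
  obtain ⟨g, hg, hgb⟩ := conj_mem_closure hR hab haW hbW
  have hCE : C ⊆ E := fun y hy => by
    have hyD := prodReach_mem hR ha hy
    have hyb : ¬ ReflTransGen (ProdAdj D) y b := fun e => hRab (ReflTransGen.trans hy e)
    have hy' : OddAdj D y b := by
      refine (cross hR hyD hb hyb).resolve_left fun e => not_commute_of_odd hR hab ?_
      exact (commute_comp hR hb hyD (fun e0 => hyb (prodReach_symm hR e0)) e.symm (prodReach_symm hR hy)).symm
    obtain ⟨k, hk, hkb⟩ := conj_mem_closure hR hy' (hCW hy) hbW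
    refine ⟨k⁻¹ * g, W.mul_mem (W.inv_mem hk) hg, ?_⟩
    calc y = k⁻¹ * b * k := by rw [hkb]; group
      _ = _ := by rw [hgb]; group
  have hbE : b ∈ E := ⟨g, hg, hgb⟩
  have hgenE : Subgroup.closure E = W := by
    refine le_antisymm ((Subgroup.closure_le _).mpr hEW) ((Subgroup.closure_le _).mpr ?_)
    rintro y (hy | rfl)
    · exact Subgroup.subset_closure (hCE hy)
    · exact Subgroup.subset_closure hbE
  have hconjE : ∀ y ∈ E, ∀ h ∈ W, h * y * h⁻¹ ∈ E := by
    rintro y ⟨w, hw, rfl⟩ h hh
    exact ⟨h * w, W.mul_mem hh hw, by group⟩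
  have hsq : ∀ y ∈ E, ∀ z ∈ E, orderOf (y * z) = 4 → (y * z) ^ 2 ∈ E := by
    rintro y ⟨w, hw, rfl⟩ z hz h4
    have hz' : w⁻¹ * z * w ∈ D := by simpa using hR.conj_mem z (hED hz) w⁻¹
    have e : w * a * w⁻¹ * z = w * (a * (w⁻¹ * z * w)) * w⁻¹ := by group
    rw [e] at h4 ⊢
    rw [← MulAut.conj_apply, MulEquiv.orderOf_eq] at h4
    rw [conj_pow]
    exact hconjE _ (hCE (ReflTransGen.single (four_adj hR ha hz' h4).1)) w hw
  have hS := rootSet_induced hR hED hgenE hconjE hsq
  set E' : Set W := {h : W | (h : G) ∈ E}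
  obtain ⟨v, hv, h4⟩ := (class_partners hD hcl ha).2
  obtain ⟨hf, -, hvf, -, hav⟩ := four_adj hR ha hv h4
  have hvC : ReflTransGen (ProdAdj D) a v := (ReflTransGen.single hf).tail (prod_symm hR hvf)
  have hfC : ReflTransGen (ProdAdj D) a ((a * v) ^ 2) := ReflTransGen.single hf
  have haE : a ∈ E := hCE ReflTransGen.refl
  have hnd : IsNondegenerateRootInvolutionSet E' :=
    ⟨hS, ⟨⟨a, haW⟩, haE, ⟨_, hCW hfC⟩, hCE hfC, fun e => hf.2.2.1 (congrArg Subtype.val e),
        Subtype.ext hf.2.2.2.1⟩,
      ⟨⟨a, haW⟩, haE, ⟨b, hbW⟩, hbE, fun e => hab.2.2.1 (congrArg Subtype.val e), by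
        rw [← Subgroup.orderOf_coe]; exact hab.2.2.2⟩,
      ⟨⟨a, haW⟩, haE, ⟨v, hCW hvC⟩, hCE hvC, by rw [← Subgroup.orderOf_coe]; exact h4⟩⟩
  have hcl' : IsRootInvolutionClass E' := by
    refine ⟨hS, ⟨⟨a, haW⟩, haE⟩, ?_⟩
    rintro ⟨x, hx⟩ ⟨p, hp, (hp' : x = _)⟩ ⟨y, hy⟩ ⟨q, hq, (hq' : y = _)⟩
    refine ⟨⟨q * p⁻¹, W.mul_mem hq (W.inv_mem hp)⟩, Subtype.ext ?_⟩
    show y = q * p⁻¹ * x * (q * p⁻¹)⁻¹
    rw [hp', hq']; group
  have hpath := hB W E' hlt hnd hcl' ⟨a, haW⟩ haE ⟨b, hbW⟩ hbE
  refine hRab ?_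
  suffices key : ∀ x : W, ReflTransGen (ProdAdj E') ⟨a, haW⟩ x → ReflTransGen (ProdAdj D) a (x : G) from
    key _ hpath
  intro x hx
  induction hx with
  | refl => exact .refl
  | tail _ h ih =>
    exact ih.tail ⟨hED h.1, hED h.2.1, fun e => h.2.2.1 (Subtype.ext e), congrArg Subtype.val h.2.2.2.1,
      hED h.2.2.2.2⟩

/-- The relation `same component or commuting`. -/
def Rel (D : Set G) (a b : G) : Prop := ReflTransGen (ProdAdj D) a b ∨ Commute a b

theorem rel_symm (hD : IsRootInvolutionSet D) {a b : G} (h : Rel D a b) : Rel D b a :=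
  h.imp (prodReach_symm hD) Commute.symm

theorem rel_conj (hD : IsRootInvolutionSet D) (g : G) {a b : G} (h : Rel D a b) :
    Rel D (g * a * g⁻¹) (g * b * g⁻¹) := by
  rcases h with h | h
  · exact Or.inl (prodReach_conj hD g h)
  · exact Or.inr (by show _ = _; rw [conj_mul, h.eq, ← conj_mul])

theorem rel_trans (hB : ConnBelow.{u} (Nat.card G)) (hD : IsNondegenerateRootInvolutionSet D)
    (hcl : IsRootInvolutionClass D) {a b c : G} (ha : a ∈ D) (hb : b ∈ D) (hc : c ∈ D) (hab : Rel D a b)
    (hbc : Rel D b c) : Rel D a c := by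
  have hR := hcl.1
  have key : ∀ {x y z : G}, y ∈ D → z ∈ D → ReflTransGen (ProdAdj D) x y → Commute z y → Rel D x z := by
    intro x y z hy hz hxy hzy
    by_cases h : ReflTransGen (ProdAdj D) z y
    · exact Or.inl (hxy.trans (prodReach_symm hR h))
    · exact Or.inr (commute_comp hR hz hy h hzy (prodReach_symm hR hxy)).symm
  rcases hab with hab | hab <;> rcases hbc with hbc | hbc
  · exact Or.inl (hab.trans hbc)
  · exact key hb hc hab hbc.symm
  · exact rel_symm hR (key hb ha (prodReach_symm hR hbc) hab)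
  by_cases h1 : ReflTransGen (ProdAdj D) a b
  · exact key hb hc h1 hbc.symm
  by_cases h3 : ReflTransGen (ProdAdj D) a c
  · exact Or.inl h3
  rcases cross hR ha hc h3 with h | h
  · exact Or.inr h
  · exact (no_wedge hB hD hcl hc hb h h3 (fun e => h1 (prodReach_symm hR e)) hab.symm hbc).elim

/-- A member fixes only its own class of the relation. -/
theorem rel_of_fix (hB : ConnBelow.{u} (Nat.card G)) (hD : IsNondegenerateRootInvolutionSet D)
    (hcl : IsRootInvolutionClass D) {a b : G} (ha : a ∈ D) (hb : b ∈ D) (h : Rel D b (a * b * a⁻¹)) :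
    Rel D a b := by
  by_contra hno
  obtain ⟨hno1, hno2⟩ := not_or.mp hno
  have := odd_moves hcl.1 ((cross hcl.1 ha hb hno1).resolve_left hno2) hno1
  exact h.elim this.1 this.2

end CfsgLib.RootConn
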