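import Cfsg.Agent.Lib.RootConn.Blocks
import Cfsg.Agent.Lib.Bender.GoodAll
import Cfsg.Agent.Lib.Bender.Q.OfOdd

/-!
The graph of products on a non-degenerate class of root involutions is connected, from theorem Q.

The classes of `same component or commuting` would satisfy hypothesis Q; so every involution of the induced group
fixes one class, hence by Bender's theorem the involutions at one class commute, and no product has order four.
-/

set_option autoImplicit false
set_option linter.unusedSectionVars false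

namespace CfsgLib.RootConn

open Cfsg Relation CfsgLib.RootInv MulAction
open CfsgLib.Bender.TwoClosed (IsInv)

universe u

/-- Theorem Q, as a hypothesis. -/
def QThm : Prop :=
  ∀ (G Ω : Type u) [Group G] [Finite G] [MulAction G Ω] [FaithfulSMul G Ω] (Z : Set G),
    CfsgLib.Bender.Q.Hyp G Ω Z → ∀ x ∈ Subgroup.closure Z, IsInv x → ∃! c : Ω, x • c = c

variable {G : Type u} [Group G] [Finite G] {D : Set G}

theorem connected_step (hQ : QThm.{u}) (hB : ConnBelow.{u} (Nat.card G)) (hD : IsNondegenerateRootInvolutionSet D)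
    (hcl : IsRootInvolutionClass D) : IsConnectedSet (ProdAdj D) D := by
  have hR := hcl.1
  by_contra hno
  obtain ⟨a, ha⟩ := hcl.2.1
  obtain ⟨b, hb, hab⟩ : ∃ b ∈ D, ¬ Rel D a b := by
    by_contra h
    push Not at h
    let K : Subgroup G :=
      { carrier := {g | ReflTransGen (ProdAdj D) a (g * a * g⁻¹)}
        one_mem' := by
          show ReflTransGen _ _ _
          rw [inv_one, mul_one, one_mul]
        mul_mem' := fun {x y} (hx : ReflTransGen _ _ _) (hy : ReflTransGen _ _ _) => by
          show ReflTransGen _ _ _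
          have := prodReach_conj hR x hy
          rw [show x * (y * a * y⁻¹) * x⁻¹ = x * y * a * (x * y)⁻¹ by group] at this
          exact hx.trans this
        inv_mem' := fun {x} (hx : ReflTransGen _ _ _) => by
          show ReflTransGen _ _ _
          have := prodReach_conj hR x⁻¹ hx
          rw [show x⁻¹ * (x * a * x⁻¹) * x⁻¹⁻¹ = a by group] at this
          exact prodReach_symm hR this }
    have hK : ⊤ ≤ K := hR.generates ▸ (Subgroup.closure_le K).mpr fun d hd => by
      show ReflTransGen _ _ _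
      rcases h d hd with e | e
      · have h1 := prodReach_conj hR d e
        rw [mul_inv_cancel_right] at h1
        exact e.trans (prodReach_symm hR h1)
      · rw [← e.eq, mul_inv_cancel_right]
    apply hno
    intro x hx y hy
    obtain ⟨g, rfl⟩ := hcl.2.2 a ha x hx
    obtain ⟨k, rfl⟩ := hcl.2.2 a ha y hy
    exact (prodReach_symm hR (hK (Subgroup.mem_top g))).trans (hK (Subgroup.mem_top k))
  -- the classes, with the action by conjugation
  let s : Setoid {x : G // x ∈ D} :=
    ⟨fun x y => Rel D x.1 y.1, fun x => Or.inl ReflTransGen.refl, fun h => rel_symm hR h,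
      fun {x y z} h h' => rel_trans hB hD hcl x.2 y.2 z.2 h h'⟩
  letI : MulAction G (Quotient s) :=
    { smul := fun g => Quotient.map (fun x => (⟨g * x.1 * g⁻¹, hR.conj_mem _ x.2 g⟩ : {x : G // x ∈ D}))
        fun x y h => rel_conj hR g h
      one_smul := fun q => Quotient.inductionOn q fun x => by
        show Quotient.mk s _ = _
        congr 1
        exact Subtype.ext (by show 1 * x.1 * (1 : G)⁻¹ = x.1; group)
      mul_smul := fun g h q => Quotient.inductionOn q fun x => by
        show Quotient.mk s _ = Quotient.mk s _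
        congr 1
        exact Subtype.ext (by show g * h * x.1 * (g * h)⁻¹ = g * (h * x.1 * h⁻¹) * g⁻¹; group) }
  haveI : Finite (Quotient s) := inferInstance
  set φ := MulAction.toPermHom G (Quotient s)
  set ψ := φ.rangeRestrict with hψ
  have hsurj : Function.Surjective ψ := φ.rangeRestrict_surjective
  have hsmul : ∀ (g : G) (c : Quotient s), ψ g • c = g • c := fun g c => rfl
  haveI : FaithfulSMul φ.range (Quotient s) :=
    ⟨fun {x y} h => Subtype.ext (Equiv.ext h)⟩
  have hfix : ∀ {d : G} (hd : d ∈ D) (c : Quotient s), ψ d • c = c ↔ c = Quotient.mk s ⟨d, hd⟩ := by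
    intro d hd c
    induction c using Quotient.inductionOn with
    | h x =>
      rw [hsmul]
      refine ⟨fun e => Quotient.sound (rel_symm hR ?_), fun e => ?_⟩
      · exact rel_of_fix hB hD hcl hd x.2 (rel_symm hR (Quotient.exact e))
      · rw [e]
        exact Quotient.sound (Or.inl (by show ReflTransGen _ (d * d * d⁻¹) d; rw [mul_inv_cancel_right]))
  set A : Quotient s := Quotient.mk s ⟨a, ha⟩ with hA
  have hnontriv : Nontrivial (Quotient s) :=
    ⟨⟨A, Quotient.mk s ⟨b, hb⟩, fun e => hab (Quotient.exact e)⟩⟩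
  have hne1 : ∀ {d : G}, d ∈ D → ψ d ≠ 1 := fun {d} hd e => by
    obtain ⟨c, hc⟩ := exists_ne (Quotient.mk s ⟨d, hd⟩)
    exact hc ((hfix hd c).mp (by rw [e, one_smul]))
  have hinv : ∀ {d : G}, d ∈ D → IsInv (ψ d) := fun {d} hd =>
    ⟨hne1 hd, by rw [← map_mul, mul_self hR hd, map_one]⟩
  set Z : Set φ.range := ψ '' D with hZ
  have hHyp : CfsgLib.Bender.Q.Hyp φ.range (Quotient s) Z := by
    refine CfsgLib.Bender.Q.Hyp.of_odd ?_ ?_ ?_ ?_ hnontriv ?_
    · rintro _ ⟨d, hd, rfl⟩; exact hinv hd
    · rintro _ ⟨d, hd, rfl⟩ g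
      obtain ⟨g, rfl⟩ := hsurj g
      exact ⟨g * d * g⁻¹, hR.conj_mem d hd g, by rw [map_mul, map_mul, map_inv]⟩
    · rintro _ ⟨d, hd, rfl⟩
      exact ⟨_, (hfix hd _).mpr rfl, fun c hc => (hfix hd c).mp hc⟩
    · intro c
      induction c using Quotient.inductionOn with
      | h x => exact ⟨ψ x.1, ⟨x.1, x.2, rfl⟩, (hfix x.2 _).mpr rfl⟩
    · rintro _ ⟨y, hy, rfl⟩ _ ⟨z, hz, rfl⟩ c d hc hd hcd
      rw [(hfix hy c).mp hc, (hfix hz d).mp hd] at hcd
      have hno' : ¬ Rel D y z := fun e => hcd (Quotient.sound e)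
      obtain ⟨h1, h2⟩ := not_or.mp hno'
      refine ((cross hR hy hz h1).resolve_left h2).2.2.2.of_dvd_nat ?_
      rw [← map_mul]
      exact orderOf_map_dvd _ _
  have hclo : ∀ x : φ.range, x ∈ Subgroup.closure Z := fun x => by
    obtain ⟨g, rfl⟩ := hsurj x
    rw [hZ, ← MonoidHom.map_closure, hR.generates]
    exact ⟨g, Subgroup.mem_top g, rfl⟩
  obtain ⟨v, hv, h4⟩ := (class_partners hD hcl ha).2
  obtain ⟨hf, -, hvf, -, -⟩ := four_adj hR ha hv h4
  set f := (a * v) ^ 2 with hf'
  have hfour : CfsgLib.SuzukiRankOne.Four φ.range := by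
    refine ⟨ψ a, ψ f, hne1 ha, hne1 hf.2.1, fun e => ?_, (hinv ha).2, (hinv hf.2.1).2, ?_⟩
    · refine hne1 hf.2.2.2.2 ?_
      rw [map_mul, e, ← map_mul, mul_self hR hf.2.1, map_one]
    · rw [← map_mul, hf.2.2.2.1, map_mul]
  have hOne : CfsgLib.Bender.OneFix φ.range (Quotient s) :=
    ⟨CfsgLib.Bender.Q.pretransitive hHyp, fun x hx => hQ _ _ Z hHyp x (hclo x) hx, hfour⟩
  obtain ⟨t, Q, hS, -⟩ := CfsgLib.Bender.Assembly.goodAll _ _ hOne A
  have hmem : ∀ {d : G}, d ∈ D → Rel D d a →
      ψ d ∈ involutionsIn (stabilizer φ.range A : Set φ.range) := fun {d} hd hda => by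
    refine ⟨mem_stabilizer_iff.mpr ((hfix hd A).mpr ?_), (hinv hd).1, (hinv hd).2⟩
    exact Quotient.sound (rel_symm hR hda)
  have hcomm := CfsgLib.SuzukiRankOne.invol_comm hS hfour (hmem ha (Or.inl .refl))
    (hmem hv (Or.inl ((ReflTransGen.single hvf).tail (prod_symm hR hf))))
  refine hne1 hf.2.1 ?_
  rw [hf', map_pow, map_mul, (show Commute (ψ a) (ψ v) from hcomm).mul_pow, pow_two, pow_two, (hinv ha).2,
    (hinv hv).2, one_mul]

/-- The graph of products on a non-degenerate class of root involutions is connected. -/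
theorem connected (hQ : QThm.{u}) (hD : IsNondegenerateRootInvolutionSet D) (hcl : IsRootInvolutionClass D) :
    IsConnectedSet (ProdAdj D) D := by
  suffices h : ∀ n : ℕ, ConnBelow.{u} n from h (Nat.card G + 1) G D (Nat.lt_succ_self _) hD hcl
  intro n
  induction n with
  | zero => exact fun H _ _ E hlt => absurd hlt (Nat.not_lt_zero _)
  | succ n ih =>
    intro H _ _ E hlt hE hclE
    rcases Nat.lt_succ_iff_lt_or_eq.mp hlt with h | h
    · exact ih H E h hE hclE
    · exact connected_step hQ (h ▸ ih) hE hclE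

end CfsgLib.RootConn
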