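import Cfsg.Agent.Lib.RootConn.Basic

/-!
With a connected graph of products, a member opposite to `d` and the partners of `d` in the graph generate.
-/

set_option autoImplicit false
set_option linter.unusedSectionVars false

namespace CfsgLib.RootConn

open Cfsg Relation CfsgLib.RootInv

universe u
variable {G : Type u} [Group G] [Finite G] {D : Set G}

theorem mem_productPartners {d e : G} : e ∈ productPartners D d ↔
    e ∈ D ∧ e * d = d * e ∧ e ≠ d ∧ e * d ∈ D :=
  ⟨fun h => ⟨h.1.1, h.1.2.1, h.1.2.2, h.2⟩, fun h => ⟨⟨h.1, h.2.1, h.2.2.1⟩, h.2.2.2⟩⟩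

theorem prodAdj_iff {d e : G} (hd : d ∈ D) : ProdAdj D d e ↔ e ∈ productPartners D d := by
  rw [mem_productPartners]
  exact ⟨fun h => ⟨h.2.1, h.2.2.2.1.symm, h.2.2.1.symm, h.2.2.2.1 ▸ h.2.2.2.2⟩,
    fun h => ⟨hd, h.1, h.2.2.1.symm, h.2.1.symm, h.2.1 ▸ h.2.2.2⟩⟩

theorem mem_of_partners (hD : IsNondegenerateRootInvolutionSet D) (hcl : IsRootInvolutionClass D) {d : G}
    (hd : d ∈ D) {H : Subgroup G} (hXd : productPartners D d ⊆ H) : d ∈ H := by
  obtain ⟨v, hv, h4⟩ := (class_partners hD hcl hd).2
  have hadj := (four_adj hcl.1 hd hv h4).1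
  set f := (d * v) ^ 2
  have h1 : f ∈ H := hXd ((prodAdj_iff hd).mp hadj)
  have h2 : d * f ∈ H := by
    refine hXd (mem_productPartners.mpr ⟨hadj.2.2.2.2, ?_, ?_, ?_⟩)
    · rw [mul_assoc, ← hadj.2.2.2.1]
    · intro e
      exact ne_one hcl.1 hadj.2.1 (mul_eq_left.mp e)
    · rw [hadj.2.2.2.1, mul_assoc, mul_self hcl.1 hd, mul_one]
      exact hadj.2.1
  have := H.mul_mem h2 (H.inv_mem h1)
  rwa [mul_inv_cancel_right] at this

/-- A subgroup containing the partners of `d` and an opposite member contains the whole component of `d`. -/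
theorem component_subset (hD : IsNondegenerateRootInvolutionSet D) (hcl : IsRootInvolutionClass D) {d x : G}
    (hdx : OddAdj D d x) {H : Subgroup G} (hgen : Subgroup.closure (productPartners D d ∪ {x}) = H)
    {y : G} (hy : ReflTransGen (ProdAdj D) d y) : y ∈ H := by
  have hR := hcl.1
  have hc := odd_connected hD hcl
  have hd := hdx.1
  have hxH : x ∈ H := hgen ▸ Subgroup.subset_closure (Or.inr rfl)
  have hXd : productPartners D d ⊆ H := fun e he => hgen ▸ Subgroup.subset_closure (Or.inl he)
  have hdH := mem_of_partners hD hcl hd hXd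
  have hS : IsRootInvolutionSet {h : H | (h : G) ∈ D ∩ (H : Set G)} := by
    refine rootSet_induced hR Set.inter_subset_left (le_antisymm ?_ ?_) ?_ ?_
    · exact (Subgroup.closure_le _).mpr Set.inter_subset_right
    · conv_lhs => rw [← hgen]
      refine (Subgroup.closure_le _).mpr ?_
      rintro e (he | rfl)
      · exact Subgroup.subset_closure ⟨he.1.1, hXd he⟩
      · exact Subgroup.subset_closure ⟨hdx.2.1, hxH⟩
    · exact fun e he h hh => ⟨hR.conj_mem e he.1 h, H.mul_mem (H.mul_mem hh he.2) (H.inv_mem hh)⟩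
    · exact fun a ha b hb e => ⟨(four_adj hR ha.1 hb.1 e).1.2.1, pow_mem (H.mul_mem ha.2 hb.2) 2⟩
  -- the conjugates of `d` in `H`
  let S : G → Prop := fun y => ∃ h ∈ H, y = h * d * h⁻¹
  have hconjS : ∀ {a b : G}, S a → a ∈ H → b ∈ H → OddAdj D a b → S b := fun {a b} ha haH hbH hab => by
    obtain ⟨h, hh, rfl⟩ := ha
    obtain ⟨g, hg, rfl⟩ := conj_mem_closure hR hab haH hbH
    exact ⟨g * h, H.mul_mem hg hh, by group⟩
  have hSd : S d := ⟨1, H.one_mem, by group⟩
  have hSX : ∀ {a : G}, S a → productPartners D a ⊆ H := fun {a} ha e he => by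
    obtain ⟨h, hh, rfl⟩ := ha
    have h2 : h⁻¹ * e * h ∈ productPartners D d := by
      obtain ⟨he1, he2, he3, he4⟩ := mem_productPartners.mp he
      refine mem_productPartners.mpr ⟨by simpa using hR.conj_mem e he1 h⁻¹, ?_,
        fun e0 => he3 (by rw [← e0]; group), ?_⟩
      · calc h⁻¹ * e * h * d = h⁻¹ * (e * (h * d * h⁻¹)) * h := by group
          _ = h⁻¹ * (h * d * h⁻¹ * e) * h := by rw [he2]
          _ = _ := by group
      · have := hR.conj_mem _ he4 h⁻¹
        rwa [show h⁻¹ * (e * (h * d * h⁻¹)) * h⁻¹⁻¹ = h⁻¹ * e * h * d by group] at this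
    have := H.mul_mem (H.mul_mem hh (hXd h2)) (H.inv_mem hh)
    rwa [show h * (h⁻¹ * e * h) * h⁻¹ = e by group] at this
  have step : ∀ e, ProdAdj D d e → S e := by
    intro e he
    have heH : e ∈ H := hXd ((prodAdj_iff hd).mp he)
    have heD := he.2.1
    set f := d * e with hf
    have hfH : f ∈ H := H.mul_mem hdH heH
    have hde : d * e = e * d := he.2.2.2.1
    have hef : e * f = d := by rw [hf, hde, ← mul_assoc, mul_self hR heD, one_mul]
    have hfe : f * e = d := by rw [hf, mul_assoc, mul_self hR heD, mul_one]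
    -- one of the two other points of the line is a conjugate of `d`
    have h1 : S e ∨ S f := by
      have hreach : ∀ {a b : H}, ReflTransGen (OddAdj {h : H | (h : G) ∈ D ∩ (H : Set G)}) a b →
          S (a : G) → S (b : G) := fun {a b} hab ha => by
        induction hab with
        | refl => exact ha
        | @tail b c _ h ih => exact hconjS ih b.2 c.2 (oddAdj_of_induced Set.inter_subset_left h)
      rcases line_reach (a := (⟨d, hdH⟩ : H)) (b := ⟨e, heH⟩) (p := ⟨x, hxH⟩) hS
        (show e ∈ D ∩ (H : Set G) from ⟨heD, heH⟩) (Subtype.ext hde)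
        (show d * e ∈ D ∩ (H : Set G) from ⟨he.2.2.2.2, hfH⟩)
        (oddAdj_induced ⟨hd, hdH⟩ ⟨hdx.2.1, hxH⟩ hdx) with h | h
      · exact Or.inl (hreach h hSd)
      · exact Or.inr (hreach h hSd)
    rcases h1 with h1 | hSf
    · exact h1
    have hfD : f ∈ D := he.2.2.2.2
    by_cases hp : ∃ p, OddAdj D e p ∧ ¬ OddAdj D f p
    · obtain ⟨p, hp, hp'⟩ := hp
      obtain ⟨v, hv, hvf, hev⟩ := flip hR hfD (hef.trans hfe.symm) (by rw [hef]; exact hd) hp hp'
      have hee := mul_self hR heD
      have hvv := mul_self hR hv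
      have hvev : v * e * v = d := by
        rw [← hef, ← hev]; simp only [← mul_assoc]; rw [hee, one_mul]
      have hvd : v * d * v = e := by
        rw [← hvev]; simp only [← mul_assoc]; rw [hvv, one_mul, mul_assoc, hvv, mul_one]
      have hne : v ≠ f := fun e0 => by
        subst e0
        have hefc : f * e * f = e := by
          rw [hfe, ← hef, mul_assoc, mul_self hR hfD, mul_one]
        exact he.2.2.1 (hvev.symm.trans hefc)
      have hvH : v ∈ H := hSX hSf (mem_productPartners.mpr ⟨hv, hvf, hne, by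
        rw [hvf, ← hev]
        simp only [mul_assoc]
        rw [hvv, mul_one, show e * (v * e) = e * v * e⁻¹ by rw [inv_eq hR heD, mul_assoc]]
        exact hR.conj_mem v hv e⟩)
      exact ⟨v, hvH, by rw [inv_eq hR hv, hvd]⟩
    · push Not at hp
      have heq : oddPartners D e = oddPartners D f :=
        eq_of_subset hR hc heD hfD fun p h => (mem_oddPartners hfD).mpr (hp p ((mem_oddPartners heD).mp h))
      have hed : e * d = f := by rw [← hde]
      have hd_e := line_same hR hc heD hd hde.symm (hed ▸ hfD) (by rw [hed, ← heq])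
      have hxe : OddAdj D e x := by
        have : x ∈ oddPartners D e := hd_e ▸ (mem_oddPartners hd).mpr hdx
        exact (mem_oddPartners heD).mp this
      exact hconjS (hconjS hSd hdH hxH hdx) hxH heH (odd_symm hxe)
  have hall : S y := by
    induction hy with
    | refl => exact hSd
    | @tail b c _ h ih =>
      obtain ⟨g, hg, rfl⟩ := ih
      have := prod_conj hR g⁻¹ h
      rw [show g⁻¹ * (g * d * g⁻¹) * g⁻¹⁻¹ = d by group] at this
      obtain ⟨k, hk, e⟩ := step _ this
      exact ⟨g * k, H.mul_mem hg hk, by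
        calc c = g * (g⁻¹ * c * g⁻¹⁻¹) * g⁻¹ := by group
          _ = g * (k * d * k⁻¹) * g⁻¹ := by rw [e]
          _ = _ := by group⟩
  obtain ⟨h, hh, rfl⟩ := hall
  exact H.mul_mem (H.mul_mem hh hdH) (H.inv_mem hh)

/-- With a connected graph of products the partners of `d` and an opposite member generate. -/
theorem generate (hD : IsNondegenerateRootInvolutionSet D) (hcl : IsRootInvolutionClass D)
    (hconn : IsConnectedSet (ProdAdj D) D) {d x : G} (hdx : OddAdj D d x) :
    Subgroup.closure (productPartners D d ∪ {x}) = ⊤ := by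
  rw [eq_top_iff, ← hcl.1.generates]
  exact (Subgroup.closure_le _).mpr fun y hy => component_subset hD hcl hdx rfl (hconn d hdx.1 y hy)

/-- A weak TI-subset of members generates an abelian subgroup. -/
theorem weakTI_comm (hD : IsNondegenerateRootInvolutionSet D) (hcl : IsRootInvolutionClass D)
    (hconn : IsConnectedSet (ProdAdj D) D) {T : Set G} (hT : IsWeakTISubsetOfElements D T) {a b : G}
    (ha : a ∈ T) (hb : b ∈ T) : a * b = b * a := by
  by_contra hab
  obtain ⟨hTD, -, hne, hTI⟩ := hT
  have hR := hcl.1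
  let N : Subgroup G :=
    { carrier := {g | (fun t => g * t * g⁻¹) '' T = T}
      one_mem' := by
        show (fun t : G => (1 : G) * t * (1 : G)⁻¹) '' T = T
        simp
      mul_mem' := fun {g h} (hg : _ = T) (hh : _ = T) => by
        show (fun t : G => g * h * t * (g * h)⁻¹) '' T = T
        conv_rhs => rw [← hg, ← hh]
        rw [Set.image_image]
        exact Set.image_congr fun t _ => by group
      inv_mem' := fun {g} (hg : _ = T) => by
        show (fun t : G => g⁻¹ * t * g⁻¹⁻¹) '' T = T
        conv_lhs => rw [← hg]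
        rw [Set.image_image]
        simp [mul_assoc] }
  have hfix : ∀ d ∈ D, ∀ t ∈ T, d * t = t * d → d ∈ N := fun d hd t ht e => by
    rcases hTI d hd with h | h
    · exact h
    · exact absurd ht (Set.disjoint_left.mp h ⟨t, ht, by dsimp only; rw [e, mul_inv_cancel_right]⟩)
  have hkill : ∀ t ∈ T, ∀ w ∈ N, OddAdj D t w → False := fun t ht w hw htw => by
    have htop : N = ⊤ := by
      rw [eq_top_iff, ← generate hD hcl hconn htw]
      refine (Subgroup.closure_le _).mpr ?_
      rintro y (hy | rfl)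
      · exact hfix y hy.1.1 t ht hy.1.2.1
      · exact hw
    refine hne (Set.Subset.antisymm hTD fun y hy => ?_)
    obtain ⟨g, rfl⟩ := hcl.2.2 t (hTD ht) y hy
    have hg : g ∈ N := htop ▸ Subgroup.mem_top g
    exact (show (fun t => g * t * g⁻¹) '' T = T from hg) ▸ ⟨t, ht, rfl⟩
  have haD := hTD ha
  have hbD := hTD hb
  have haN := hfix a haD a ha rfl
  have hbN := hfix b hbD b hb rfl
  rcases hR.pair a haD b hbD with e | e | ⟨e, -⟩
  · exact hab e
  · exact hkill a ha b hbN ⟨haD, hbD, fun e0 => hab (by rw [e0]), e⟩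
  · have hc := odd_connected hD hcl
    obtain ⟨⟨-, hcD, hac, hacc, hacD⟩, e1, ⟨-, -, -, hbc, -⟩, -, -⟩ := four_adj hR haD hbD e
    set c := (a * b) ^ 2 with hc'
    have hdiff : oddPartners D c ≠ oddPartners D a := fun h =>
      hab (sameComm_of_sameOdd hR hc hcD haD h ⟨hbD, hbc⟩).2.symm
    obtain ⟨p, hp, hp'⟩ := exists_diff hR hc hcD haD hdiff
    obtain ⟨v, hv, hva, hcv⟩ := flip hR haD hacc.symm (hacc ▸ hacD) hp hp'
    have hvN := hfix v hv a ha hva
    have hcc := mul_self hR hcD
    have hvc : v * c * v = c * a := by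
      rw [← hcv]; simp only [← mul_assoc]; rw [hcc, one_mul]
    have h3 := order_three hR hv hbD (ne_one hR hcD) (ne_one hR haD) hcc (Ne.symm hac) hacc.symm hcD hvc hva
      e1.symm hbc
    refine hkill b hb v hvN (odd_symm ⟨hv, hbD, fun e0 => ?_, h3 ▸ ⟨1, rfl⟩⟩)
    rw [e0, mul_self hR hbD, orderOf_one] at h3
    omega

end CfsgLib.RootConn
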