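import Cfsg.Agent.Lib.RootConn.Generation
import Cfsg.Agent.Lib.RootConn.Connected

/-!
The consequences of connectedness in the shape of the statements, from theorem Q.
-/

set_option autoImplicit false
set_option linter.unusedSectionVars false

namespace CfsgLib.RootConn

open Cfsg Relation CfsgLib.RootInv

universe u
variable {G : Type u} [Group G] [Finite G] {D : Set G}

theorem generation_and_connected (hQ : QThm.{u}) (hD : IsNondegenerateRootInvolutionSet D)
    (hcl : IsRootInvolutionClass D) :
    (∀ d ∈ D, ∀ x ∈ oddPartners D d, Subgroup.closure (productPartners D d ∪ {x}) = ⊤) ∧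
      IsConnectedSet (ProdAdj D) D :=
  ⟨fun _ hd _ hx => generate hD hcl (connected hQ hD hcl) ((mem_oddPartners hd).mp hx), connected hQ hD hcl⟩

theorem weakTI_abelian (hQ : QThm.{u}) (hD : IsNondegenerateRootInvolutionSet D)
    (hcl : IsRootInvolutionClass D) {T : Set G} (hT : IsWeakTISubsetOfElements D T) :
    IsMulCommutative ↥(Subgroup.closure T) :=
  Subgroup.isMulCommutative_closure fun _ hx _ hy => weakTI_comm hD hcl (connected hQ hD hcl) hT hx hy

end CfsgLib.RootConn
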